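import Mathlib
import Cfsg.Agent.H80.PM.SL2Facts

/-!
`SL₂` in characteristic two: fixed lines of involutions and small facts on `PSL₂`.
-/

set_option autoImplicit false
set_option linter.unusedSectionVars false

open Matrix Subgroup
open scoped MatrixGroups commutatorElement

namespace H29.OddPush.Two

variable {F : Type} [Field F] [Fintype F] [CharP F 2]

/-- The fixed points of an involution form a line. -/
theorem fix_line {g : SL(2, F)} (hg1 : g ≠ 1) (hg : g * g = 1) :
    ∃ w : Fin 2 → F, w ≠ 0 ∧ ∀ v, g.1.mulVec v = v ↔ ∃ t : F, v = t • w := by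
  have hinv : g⁻¹ = g := inv_eq_of_mul_eq_one_left hg
  have hd : g 1 1 = g 0 0 := by
    have := congrArg (fun x : SL(2, F) => x 0 0) hinv
    simpa [SpecialLinearGroup.coe_inv, Matrix.adjugate_fin_two] using this
  have hdet : (g 0 0 + 1) * (g 0 0 + 1) = g 0 1 * g 1 0 := by
    have h := g.2
    rw [Matrix.det_fin_two, hd] at h
    linear_combination h + (g 0 0 + 1) * CharTwo.two_eq_zero (R := F)
  have hfix : ∀ v : Fin 2 → F, g.1.mulVec v = v ↔
      (g 0 0 + 1) * v 0 + g 0 1 * v 1 = 0 ∧ g 1 0 * v 0 + (g 0 0 + 1) * v 1 = 0 := by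
    intro v
    constructor
    · intro h
      have h0 := congrFun h 0
      have h1 := congrFun h 1
      simp [Matrix.mulVec, dotProduct, Fin.sum_univ_two, hd] at h0 h1
      constructor
      · linear_combination h0 + v 0 * CharTwo.two_eq_zero (R := F)
      · linear_combination h1 + v 1 * CharTwo.two_eq_zero (R := F)
    · rintro ⟨h0, h1⟩
      funext i
      fin_cases i <;> simp [Matrix.mulVec, dotProduct, Fin.sum_univ_two, hd]
      · linear_combination h0 - v 0 * CharTwo.two_eq_zero (R := F)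
      · linear_combination h1 - v 1 * CharTwo.two_eq_zero (R := F)
  by_cases hb : g 0 1 = 0
  · rw [hb, zero_mul, mul_self_eq_zero] at hdet
    have hc : g 1 0 ≠ 0 := by
      intro hc
      apply hg1
      have ha : g 0 0 = 1 := CharTwo.add_eq_zero.1 hdet
      ext i j
      fin_cases i <;> fin_cases j <;> simp [hb, hc, ha, hd]
    refine ⟨![0, 1], fun h => one_ne_zero (congrFun h 1 : (1 : F) = 0), fun v => ?_⟩
    rw [hfix, hdet, hb]
    constructor
    · rintro ⟨-, h⟩
      simp [hc] at h
      exact ⟨v 1, funext fun i => by fin_cases i <;> simp [h]⟩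
    · rintro ⟨t, rfl⟩
      simp
  · refine ⟨![g 0 1, g 0 0 + 1], fun h => hb (congrFun h 0), fun v => ?_⟩
    rw [hfix]
    constructor
    · rintro ⟨h, -⟩
      refine ⟨v 0 / g 0 1, funext fun i => ?_⟩
      fin_cases i
      · simp [div_mul_cancel₀ _ hb]
      · simp
        field_simp
        linear_combination h - (g 0 0 + 1) * v 0 * CharTwo.two_eq_zero (R := F)
    · rintro ⟨t, rfl⟩
      simp
      constructor
      · linear_combination (g 0 0 + 1) * t * g 0 1 * CharTwo.two_eq_zero (R := F)
      · linear_combination t * hdet + t * g 0 1 * g 1 0 * CharTwo.two_eq_zero (R := F)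

theorem fix_sub {g h : SL(2, F)} (hg1 : g ≠ 1) (hg : g * g = 1) (hh : h * h = 1)
    (hc : g * h = h * g) {v : Fin 2 → F} (hv : g.1.mulVec v = v) : h.1.mulVec v = v := by
  obtain ⟨w, hw, hline⟩ := fix_line hg1 hg
  obtain ⟨t, rfl⟩ := (hline v).1 hv
  have hgw : g.1.mulVec w = w := (hline w).2 ⟨1, (one_smul F w).symm⟩
  have h1 : g.1.mulVec (h.1.mulVec w) = h.1.mulVec w := by
    rw [Matrix.mulVec_mulVec, show g.1 * h.1 = h.1 * g.1 from congrArg Subtype.val hc,
      ← Matrix.mulVec_mulVec, hgw]
  obtain ⟨l, hl⟩ := (hline _).1 h1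
  have h2 : (l * l - 1) • w = 0 := by
    have h3 : h.1.mulVec (h.1.mulVec w) = w := by
      rw [Matrix.mulVec_mulVec, show h.1 * h.1 = 1 from congrArg Subtype.val hh,
        Matrix.one_mulVec]
    rw [hl, Matrix.mulVec_smul, hl, smul_smul] at h3
    rw [sub_smul, one_smul, h3, sub_self]
  have hl1 : l = 1 := by
    have := (smul_eq_zero.1 h2).resolve_right hw
    have h4 : (l + 1) * (l + 1) = 0 := by
      linear_combination this + (l + 1) * CharTwo.two_eq_zero (R := F)
    exact CharTwo.add_eq_zero.1 (mul_self_eq_zero.1 h4)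
  rw [Matrix.mulVec_smul, hl, hl1, one_smul]

theorem card_fix {g : SL(2, F)} (hg1 : g ≠ 1) (hg : g * g = 1) :
    Nat.card {v : Fin 2 → F // g.1.mulVec v = v} = Nat.card F := by
  obtain ⟨w, hw, hline⟩ := fix_line hg1 hg
  refine (Nat.card_congr (Equiv.ofBijective
    (fun t : F => (⟨t • w, (hline _).2 ⟨t, rfl⟩⟩ : {v : Fin 2 → F // g.1.mulVec v = v}))
    ⟨fun a b h => smul_left_injective F hw (congrArg Subtype.val h), fun v => ?_⟩)).symm
  obtain ⟨t, ht⟩ := (hline v.1).1 v.2
  exact ⟨t, Subtype.ext ht.symm⟩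

theorem exists_sl_of_addEquiv (hF : Nat.card F = 2) (f : (Fin 2 → F) ≃+ (Fin 2 → F)) :
    ∃ g : SL(2, F), ∀ v, g.1.mulVec v = f v := by
  classical
  have h01 : ∀ x : F, x = 0 ∨ x = 1 := by
    intro x
    by_contra hx
    rw [not_or] at hx
    have h := Finset.card_le_univ ({0, 1, x} : Finset F)
    rw [← Nat.card_eq_fintype_card (α := F), hF] at h
    rw [Finset.card_eq_three.2 ⟨0, 1, x, zero_ne_one, Ne.symm hx.1, Ne.symm hx.2, rfl⟩] at h
    omega
  have hsmul : ∀ (c : F) (v : Fin 2 → F), f (c • v) = c • f v := by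
    intro c v
    rcases h01 c with rfl | rfl <;> simp
  let e : (Fin 2 → F) ≃ₗ[F] (Fin 2 → F) := { f with map_smul' := hsmul }
  have hdet : (LinearMap.toMatrix' e.toLinearMap).det = 1 := by
    rw [LinearMap.det_toMatrix']
    exact (h01 _).resolve_left e.isUnit_det'.ne_zero
  exact ⟨⟨_, hdet⟩, fun v => LinearMap.toMatrix'_mulVec _ _⟩

theorem proj_injective :
    Function.Injective (H39.proj : SL(2, F) → Matrix.ProjectiveSpecialLinearGroup (Fin 2) F) := by
  intro g h hgh
  rcases H39.proj_eq_proj_iff.1 hgh with rfl | rfl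
  · rfl
  · ext i j
    simp [CharTwo.neg_eq]

theorem card_commutator_psl :
    Nat.card (commutator (Matrix.ProjectiveSpecialLinearGroup (Fin 2) F)) =
      Nat.card (commutator SL(2, F)) := by
  have hs : Function.Surjective
      (H39.proj : SL(2, F) →* Matrix.ProjectiveSpecialLinearGroup (Fin 2) F) :=
    QuotientGroup.mk'_surjective _
  rw [← Subgroup.card_map_of_injective (K := commutator SL(2, F))
    (f := (H39.proj : SL(2, F) →* Matrix.ProjectiveSpecialLinearGroup (Fin 2) F)) proj_injective,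
    map_commutator_eq, MonoidHom.range_eq_top.2 hs, ← commutator_def]

theorem transl_central {a : F}
    (h : ∀ x ∈ commutator (Matrix.ProjectiveSpecialLinearGroup (Fin 2) F),
      x * H39.transl a = H39.transl a * x) : a = 0 := by
  have hx : H39.proj ⁅H98.uu (1 : F), H80.PM.SL2F.wEl F⁆ ∈
      commutator (Matrix.ProjectiveSpecialLinearGroup (Fin 2) F) := by
    rw [map_commutatorElement]
    exact commutator_mem_commutator (mem_top _) (mem_top _)
  have h2 := h _ hx
  rw [H39.transl, ← map_mul, ← map_mul] at h2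
  have h3 := congrArg (fun x : SL(2, F) => x 0 0) (proj_injective h2)
  simpa [commutatorElement_def, H98.coe_uu, H80.PM.SL2F.coe_wEl, Matrix.mul_apply,
    Fin.sum_univ_two, SpecialLinearGroup.coe_inv, Matrix.adjugate_fin_two, CharTwo.two_eq_zero]
    using h3

end H29.OddPush.Two
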