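import Cfsg.Agent.H29.OddPush.Pair
import Cfsg.Agent.H29.OddPush.SL2Two
import Cfsg.Agent.H80.PM.Piece
import Cfsg.Agent.H80.PM.SymPiece
import Cfsg.Agent.H80.PM.SymPiece
import Cfsg.Agent.H80.PM.SymPiece
import Cfsg.Agent.H80.PM.SymPiece
import Cfsg.Agent.H80.PM.SymPiece
import Cfsg.Agent.H78.BlockLinearAct

/-!
The Baumann subgroup acting on a linear block for the prime two.
-/

set_option autoImplicit false
set_option linter.unusedSectionVars false

open Subgroup
open scoped commutatorElement MatrixGroups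

namespace H29.OddPush

open H78.Block (LinData sl2v)
open H80.PM.SL2F
open H80.PM.SL2F
open H80.PM.SL2F
open H80.PM.SL2F
open H80.PM.SL2F

/-- An additive map of `2`-power order in characteristic two has a nonzero fixed point. -/
theorem exists_fixed_two {M : Type*} [AddCommGroup M] (h2 : ∀ v : M, v + v = 0) (f : M →+ M)
    (j : ℕ) : ∀ v : M, v ≠ 0 → f^[2 ^ j] v = v → ∃ u : M, u ≠ 0 ∧ f u = u := by
  induction j with
  | zero => exact fun v hv h => ⟨v, hv, by simpa using h⟩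
  | succ j ih =>
    intro v hv h
    rw [pow_succ, mul_two, Function.iterate_add_apply] at h
    by_cases hu : v + f^[2 ^ j] v = 0
    · refine ih v hv ?_
      rw [← neg_eq_of_add_eq_zero_right hu, neg_eq_iff_add_eq_zero]
      exact h2 v
    · refine ih _ hu ?_
      rw [iterate_map_add, h, add_comm]

theorem transl_zero' {F : Type} [Field F] [Fintype F] :
    H39.transl (0 : F) = (1 : Matrix.ProjectiveSpecialLinearGroup (Fin 2) F) := by
  rw [← proj_uu]
  convert map_one (H39.proj (F := F))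
  ext i j
  fin_cases i <;> fin_cases j <;> simp [H98.uu]

variable {G : Type*} [Group G] [Finite G] {T : Sylow 2 G} {M : Subgroup G}

open H80.PM in
/-- `B(T)` and the module of the block of a piece. -/
theorem good_block [Fact (Nat.Prime 2)] (s : Setting 2 T M) {x : G} (fr : Frame 2 T x) {F : Type}
    [Field F] [Fintype F] {n : ℕ} (hn : 0 < n) (hF : Fintype.card F = 2 ^ n) {P : Subgroup G}
    {ψ : ↥P →* Matrix.ProjectiveSpecialLinearGroup (Fin 2) F} (pc : Piece 2 T M F P ψ)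
    {X e : Subgroup G} (b : PieceBlock 2 T x P F n ψ X e) :
    ∃ D W₁ : Subgroup G, Good (bT 2 (T : Subgroup G)) (Cfsg.pCoreOf 2 e) D W₁ ∧
      (∀ g ∈ e, ∀ c ∈ cB (bT 2 (T : Subgroup G)) (Cfsg.pCoreOf 2 e), ⁅g, c⁆ ∈ Cfsg.pCoreOf 2 e) ∧
      ⁅Cfsg.pCoreOf 2 e, e⁆ = Cfsg.pCoreOf 2 e ∧ Cfsg.pCoreOf 2 e ≠ ⊥ := by
  classical
  haveI : CharP F 2 := charP_of_card_eq_prime_pow hF
  haveI hCn : (H80.LCSS.cenV 2 G).Normal := H80.LCSS.Data.cenV_normal
  obtain ⟨hle, hBX, hXs, hsyl, hres, hsup, hbody, -, -, hblock⟩ := b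
  have hXP : X ≤ P := hle.trans inf_le_right
  set B := bT 2 (T : Subgroup G) with hB
  have hBP : B ≤ P := hBX.trans hXP
  obtain ⟨-, -, hQe, ⟨iso⟩, hWs, hOr⟩ := hbody
  set W := Cfsg.pCoreOf 2 e with hWdef
  have hQW : W = Cfsg.omegaOneCenter 2 W := hOr.resolve_right (by rintro ⟨h, -⟩; norm_num at h)
  set Z := W ⊓ centralizer (e : Set G) with hZ
  rw [← hQW] at hWs
  -- normalisers
  have heX : e ≤ X := hres ▸ H75.resOf_le X
  have hXe : X ≤ normalizer (e : Set G) := by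
    refine H75.le_normalizer_of_conj fun g hg y hy => ?_
    rw [← hres, ← H75.map_pResidual_eq_resOf] at hy ⊢
    obtain ⟨y', hy', rfl⟩ := hy
    exact ⟨⟨g, hg⟩ * y' * ⟨g, hg⟩⁻¹, (H75.pResidual_normal 2 X).conj_mem y' hy' _, rfl⟩
  have hXW : X ≤ normalizer (W : Set G) := hXe.trans (H75.normalizer_le_normalizer_pCoreOf e)
  have hXZ : X ≤ normalizer (Z : Set G) := (le_inf hXW
    (hXe.trans (H75.normalizer_le_normalizer_centralizer e))).trans
      (H75.normalizer_inf_le_normalizer_inf _ _)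
  have hWe : W ≤ e := H75.pCoreOf_le e
  have hWp : IsPGroup 2 W := H75.isPGroup_pCoreOf e
  have hBp : IsPGroup 2 B := T.isPGroup'.to_le s.bT_le_T
  have hWB : W ≤ B := by
    have h1 := hsyl (B ⊔ W) (sup_le hBX (hWe.trans heX))
      (hBp.to_sup_of_normal_right' hWp (hBX.trans hXW)) le_sup_left
    exact le_sup_right.trans h1.le
  -- coordinates
  obtain ⟨S, ρ, hU, hU₀, hr, hact⟩ :=
    H78.Block.exists_sec hWs (heX.trans hXZ)
  have hNz : ∀ g ∈ X, g ∈ S.Nz := fun g hg => S.mem_Nz.2 ⟨hU ▸ hXW hg, hU₀ ▸ hXZ hg⟩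
  have hactW : ∀ w ∈ W, ∀ v, S.act w v = v := by
    intro w hw v
    obtain ⟨u, hu, rfl⟩ := S.exists_img v
    rw [S.act_img (hNz w (heX (hWe hw))) hu, S.img_conj_mem (hU ▸ hw) hu]
  have hWab : ∀ u ∈ W, ∀ v ∈ W, u * v = v * u := fun u hu v hv => by
    rw [hQW] at hv
    exact (H78.Block.mem_omegaOneCenter.1 hv).1.2 u hu
  have hW2 : ∀ u ∈ W, u * u = 1 := fun u hu => by
    rw [hQW] at hu
    rw [← sq]
    exact (H78.Block.mem_omegaOneCenter.1 hu).2
  set C := cB B W with hC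
  have hmodE : H78.Block.modE 2 e = W := by
    show ⁅Cfsg.omegaOneCenter 2 (Cfsg.pCoreOf 2 e), e⁆ = W
    rw [← hWdef, ← hQW, hQe]
  -- elements fixing the section
  have hfixC : ∀ b ∈ B, (∀ v, S.act b v = v) → b ∈ C := by
    intro b hb hv
    refine Subgroup.mem_inf.2 ⟨hb, ?_⟩
    rw [← hmodE]
    refine H78.Block.centralizes_of_fix hblock (hXe (hBX hb)) fun w hw => ?_
    rw [← hWdef, ← hQW] at hw ⊢
    exact hU₀ ▸ ((S.mem_triv_iff (hNz b (hBX hb))).2 hv).2 w (hU ▸ hw)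
  have hCact : ∀ c ∈ C, ∀ v, S.act c v = v := by
    intro c hc v
    obtain ⟨u, hu, rfl⟩ := S.exists_img v
    rw [S.act_img (hNz c (hBX hc.1)) hu,
      ← mem_centralizer_iff.1 hc.2 u (hU ▸ hu), mul_inv_cancel_right]
  have hCe : ∀ g ∈ e, ∀ c ∈ C, ⁅g, c⁆ ∈ W := by
    intro g hg c hc
    have h1 : ⁅g, c⁆ ∈ e := by
      rw [commutatorElement_def, mul_assoc, mul_assoc]
      refine mul_mem hg ?_
      rw [← mul_assoc]
      exact H75.conj_mem_of_mem_normalizer (hXe (hBX hc.1)) (inv_mem hg)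
    have h2 : ⁅g, c⁆ ∈ centralizer (W : Set G) := by
      rw [commutatorElement_def]
      exact mul_mem (H75.conj_mem_of_mem_normalizer
        (H75.normalizer_le_normalizer_centralizer W (hXW (heX hg))) hc.2) (inv_mem hc.2)
    rw [hWdef]
    refine linBody_inf_cen (p := 2) (F := F) (n := n) (B := B)
      ⟨hblock.1, hblock.2.1, hQe, ⟨iso⟩, by rwa [← hWdef, ← hQW], Or.inl hQW⟩ ⟨h1, ?_⟩
    show ⁅g, c⁆ ∈ centralizer (Cfsg.omegaOneCenter 2 W : Set G)
    rwa [← hQW]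
  -- the map onto `PSL₂`
  let f : ↥X →* Matrix.ProjectiveSpecialLinearGroup (Fin 2) F := ψ.comp (inclusion hXP)
  have hfs : Function.Surjective f := by
    intro σ
    obtain ⟨y, hy, rfl⟩ := Subgroup.mem_map.1 (hXs ▸ mem_top σ)
    exact ⟨⟨y, hy⟩, rfl⟩
  have hjB : H80.PM.jT 2 (T : Subgroup G) ≤ B := s.jT_le_bT
  have hBimg : ∀ t, (∃ y : ↥X, (y : G) ∈ B ∧ f y = t) ↔ ∃ a, t = H39.transl a := by
    intro t
    rw [← pc.upper t]
    constructor
    · rintro ⟨y, hy, rfl⟩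
      obtain ⟨c, hc, j, hj, hyj⟩ := H1.exists_mul_of_mem_sup
        (le_top.trans (normalizer_eq_top_iff.2 hCn).ge :
          jT 2 (T : Subgroup G) ≤ normalizer (H80.LCSS.cenV 2 G : Set G))
        (by rw [sup_comm]; exact s.bT_le fr hy : (y : G) ∈ H80.LCSS.cenV 2 G ⊔ jT 2 (T : Subgroup G))
      refine ⟨⟨j, pc.jT_le hj⟩, hj, ?_⟩
      show _ = ψ (inclusion hXP y)
      have : inclusion hXP y = ⟨c, pc.cen_le hc⟩ * ⟨j, pc.jT_le hj⟩ := Subtype.ext hyj
      rw [this, map_mul, pc.ker ⟨c, pc.cen_le hc⟩ hc, one_mul]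
    · rintro ⟨y, hy, rfl⟩
      exact ⟨⟨y, hBX (hjB hy)⟩, hjB hy, rfl⟩
  have hfB : ∀ y : ↥X, (y : G) ∈ B → ∃ a, f y = H39.transl a := fun y hy =>
    (hBimg _).1 ⟨y, hy, rfl⟩
  have hsq : ∀ a : F, H39.transl a * H39.transl a = (1 : Matrix.ProjectiveSpecialLinearGroup (Fin 2) F) := by
    intro a
    rw [← proj_uu, ← map_mul, ← sq, uu_pow,
      show ((2 : ℕ) : F) * a = 0 by rw [CharP.cast_eq_zero, zero_mul], proj_uu]
    exact transl_zero'
  have hfW : ∀ y : ↥X, (y : G) ∈ W → f y = 1 := by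
    intro y hy
    obtain ⟨a, ha⟩ := hfB y (hWB hy)
    obtain ⟨w, hw⟩ := hfs (H39.proj (wEl F))
    obtain ⟨c, hc⟩ := hfB (w * y * w⁻¹) (hWB (H75.conj_mem_of_mem_normalizer (hXW w.2) hy))
    rw [map_mul, map_mul, map_inv, hw, ha, ← proj_uu, ← proj_uu, ← map_inv, ← map_mul, ← map_mul] at hc
    have h1 := Two.proj_injective hc
    rw [mul_inv_eq_iff_eq_mul] at h1
    have h2 := congrArg (fun g : SL(2, F) => (g : Matrix (Fin 2) (Fin 2) F) 1 1) h1
    simp only [Matrix.SpecialLinearGroup.coe_mul] at h2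
    simp [H98.uu, wEl, Matrix.SpecialLinearGroup.coe_mul, Matrix.mul_apply, Fin.sum_univ_two] at h2
    rw [ha, show a = 0 by simpa using h2]
    exact transl_zero'
  -- the image of `e`
  have hfe : commutator (Matrix.ProjectiveSpecialLinearGroup (Fin 2) F) ≤ (e.subgroupOf X).map f := by
    haveI := normal_subgroupOf_of_le_normalizer hXe
    haveI hN : ((e.subgroupOf X).map f).Normal := Normal.map inferInstance f hfs
    rw [_root_.commutator_def, commutator_le]
    have hdec : ∀ σ, ∃ a, ∃ k ∈ (e.subgroupOf X).map f, σ = k * H39.transl a := by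
      intro σ
      obtain ⟨y, rfl⟩ := hfs σ
      obtain ⟨g, hg, c, hc, hy⟩ := H1.exists_mul_of_mem_sup (hBX.trans hXe)
        (by rw [hsup]; exact y.2 : (y : G) ∈ e ⊔ B)
      obtain ⟨a, ha⟩ := hfB ⟨c, hBX hc⟩ hc
      refine ⟨a, f ⟨g, heX hg⟩, mem_map_of_mem f hg, ?_⟩
      rw [← ha, ← map_mul]
      exact congrArg f (Subtype.ext hy)
    intro σ _ τ _
    obtain ⟨a, k, hk, rfl⟩ := hdec σ
    obtain ⟨c, l, hl, rfl⟩ := hdec τ
    rw [← QuotientGroup.eq_one_iff, ← QuotientGroup.mk'_apply, map_commutatorElement,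
      commutatorElement_eq_one_iff_mul_comm, map_mul, map_mul,
      show QuotientGroup.mk' _ k = 1 from (QuotientGroup.eq_one_iff _).2 hk,
      show QuotientGroup.mk' _ l = 1 from (QuotientGroup.eq_one_iff _).2 hl, one_mul, one_mul,
      ← map_mul, ← map_mul, ← proj_uu, ← proj_uu, ← map_mul, ← map_mul,
      upper_comm (mem_upper.2 ⟨a, rfl⟩) (mem_upper.2 ⟨c, rfl⟩)]
  -- the elements of `e` killed by the map
  have hek : ∀ g : ↥X, (g : G) ∈ e → f g = 1 → (g : G) ∈ W := by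
    let φ : ↥e →* Matrix.ProjectiveSpecialLinearGroup (Fin 2) F := f.comp (inclusion heX)
    have hker : Cfsg.pCore 2 ↥e ≤ φ.ker := fun g hg => hfW _ ⟨g, hg, rfl⟩
    have hrange : commutator (Matrix.ProjectiveSpecialLinearGroup (Fin 2) F) ≤ φ.range := by
      refine hfe.trans ?_
      rintro _ ⟨y, hy, rfl⟩
      exact ⟨⟨y, hy⟩, rfl⟩
    have h1 := card_mul_index φ.ker
    rw [index_ker] at h1
    have h2 := card_mul_index (Cfsg.pCore 2 ↥e)
    rw [index_eq_card, Nat.card_congr iso.toEquiv, ← Two.card_commutator_psl] at h2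
    have h3 : Cfsg.pCore 2 ↥e = φ.ker := by
      refine eq_of_le_of_card_ge hker ?_
      refine Nat.le_of_mul_le_mul_right ?_ (Nat.card_pos (α := φ.range))
      rw [h1, ← h2]
      exact Nat.mul_le_mul_left _ (card_le_of_le hrange)
    intro g hg hg1
    exact Subgroup.mem_map.2 ⟨(⟨g, hg⟩ : ↥e), h3.ge (MonoidHom.mem_ker.2 hg1), rfl⟩
  -- the kernel on `B`
  have hCf : ∀ y : ↥X, (y : G) ∈ C → f y = 1 := by
    intro y hy
    obtain ⟨a, ha⟩ := hfB y hy.1
    rw [ha, Two.transl_central (a := a) ?_]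
    · exact transl_zero'
    intro σ hσ
    obtain ⟨g, hg, rfl⟩ := hfe hσ
    have h1 := hfW ⁅g, y⁆ (hCe g hg y hy)
    rw [map_commutatorElement, commutatorElement_eq_one_iff_mul_comm, ha] at h1
    exact h1
  have hfC : ∀ y : ↥X, (y : G) ∈ B → f y = 1 → (y : G) ∈ C := by
    intro y hyB hy1
    refine hfixC _ hyB ?_
    let φ := S.actHom (hNz y y.2)
    have hcomm : ∀ g ∈ commutator SL(2, F), ∀ v, sl2v g (φ v) = φ (sl2v g v) := by
      intro g hg v
      obtain ⟨g', rfl⟩ := hr.ge hg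
      have hy' : ⁅(g' : G), (y : G)⁆ ∈ W := by
        refine hek ⁅(⟨g', heX g'.2⟩ : ↥X), y⁆ ?_ ?_
        · show ⁅(g' : G), (y : G)⁆ ∈ e
          rw [commutatorElement_def, mul_assoc, mul_assoc]
          refine mul_mem g'.2 ?_
          rw [← mul_assoc]
          exact H75.conj_mem_of_mem_normalizer (hXe y.2) (inv_mem g'.2)
        · rw [map_commutatorElement, hy1, commutatorElement_one_right]
      have hgy : (g' : G) ∈ S.Nz := hNz _ (heX g'.2)
      have := hactW _ hy' (S.act (y : G) (S.act (g' : G) v))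
      rw [← S.act_mul (hNz _ y.2) hgy, ← S.act_mul (hNz _ (heX (hWe hy')))
        (mul_mem (hNz _ y.2) hgy),
        show ⁅(g' : G), (y : G)⁆ * ((y : G) * g') = g' * y by rw [commutatorElement_def]; group] at this
      rw [← hact, ← hact]
      show S.act (g' : G) (S.act (y : G) v) = S.act (y : G) (S.act (g' : G) v)
      rw [← S.act_mul hgy (hNz _ y.2), this, S.act_mul (hNz _ y.2) hgy]
    let A : AddSubgroup (Fin 2 → F) :=
      { carrier := {v | φ v = v}
        add_mem' := fun {u v} hu hv => by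
          show φ (u + v) = u + v
          rw [map_add, hu, hv]
        zero_mem' := map_zero φ
        neg_mem' := fun {u} hu => by
          show φ (-u) = -u
          rw [map_neg, hu] }
    rcases H78.Block.sl2_irreducible A (fun g hg v hv => by
      show φ (sl2v g v) = sl2v g v
      rw [← hcomm g hg, (hv : φ v = v)]) with h | h
    · exfalso
      obtain ⟨j, hj⟩ := hBp ⟨y, hyB⟩
      have hj' : (y : G) ^ 2 ^ j = 1 := congrArg Subtype.val hj
      obtain ⟨u, hu, hfu⟩ := exists_fixed_two (fun v => funext fun i => CharTwo.add_self_eq_zero (v i)) φ j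
        ![1, 0] (fun h => by simpa using congrFun h 0)
        (by show (S.act (y : G))^[2 ^ j] _ = _
            rw [← S.act_pow (hNz _ y.2), hj', S.act_one])
      exact hu ((AddSubgroup.mem_bot).1 (h ▸ (hfu : u ∈ A)))
    · exact fun v => (h ▸ AddSubgroup.mem_top v : v ∈ A)
  -- `B` acts as a subgroup of `SL₂`
  have hlin : ∀ c ∈ B, ∃ g : SL(2, F), ∀ v, S.act c v = sl2v g v := by
    intro c hc
    have hcN := hNz c (hBX hc)
    by_cases h2 : Nat.card F = 2
    · obtain ⟨g, hg⟩ := Two.exists_sl_of_addEquiv h2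
        { toFun := S.act c
          invFun := S.act c⁻¹
          left_inv := S.act_inv_act hcN
          right_inv := S.act_act_inv hcN
          map_add' := S.act_add hcN }
      exact ⟨g, fun v => (hg v).symm⟩
    -- `e` covers
    have hsq' : ∃ a : F, a ≠ 0 ∧ a ^ 2 ≠ 1 := by
      by_contra hcon
      push Not at hcon
      refine h2 (Nat.card_eq_two_iff.2 ⟨0, 1, zero_ne_one, Set.eq_univ_of_forall fun a => ?_⟩)
      by_cases ha : a = 0
      · exact Or.inl ha
      · refine Or.inr ?_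
        rcases sq_eq_one_iff.1 (hcon a ha) with h | h
        · exact h
        · rwa [CharTwo.neg_eq] at h
    have htop : commutator SL(2, F) = ⊤ := Cfsg.Agent.H9.commutator_SL_eq_top_of_square hsq'
    have htop' : commutator (Matrix.ProjectiveSpecialLinearGroup (Fin 2) F) = ⊤ := by
      refine eq_top_of_card_eq _ ?_
      rw [Two.card_commutator_psl, htop, Subgroup.card_top]
      exact Nat.card_congr (Equiv.ofBijective H39.proj ⟨Two.proj_injective, H39.proj_surjective⟩)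
    obtain ⟨a, ha⟩ := hfB ⟨c, hBX hc⟩ hc
    obtain ⟨g, hg, hga⟩ := hfe (htop' ▸ mem_top (H39.transl a))
    -- `e ∩ f⁻¹(U)` is in `B`
    have hgB : (g : G) ∈ B := by
      set U := (((B.subgroupOf X).map f).comap f ⊓ e.subgroupOf X).map X.subtype with hUdef
      have hUp : IsPGroup 2 U := by
        intro u
        obtain ⟨y, ⟨hy1, hy2⟩, hyu⟩ := Subgroup.mem_map.1 u.2
        obtain ⟨z, hz, hzy⟩ := Subgroup.mem_map.1 hy1
        obtain ⟨a', ha'⟩ := hfB z hz
        have h4 : f (y ^ 2) = 1 := by rw [map_pow, ← hzy, ha', sq, hsq]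
        obtain ⟨k, hk⟩ := hWp ⟨_, hek (y ^ 2) (mem_subgroupOf.1 ((e.subgroupOf X).pow_mem hy2 2)) h4⟩
        refine ⟨k + 1, Subtype.ext ?_⟩
        rw [SubgroupClass.coe_pow, pow_succ', pow_mul, ← hyu, OneMemClass.coe_one]
        exact congrArg Subtype.val hk
      have hUX : U ≤ X := map_subtype_le _
      have hBU : B ≤ normalizer (U : Set G) := by
        refine H75.le_normalizer_of_conj fun d hd u hu => ?_
        obtain ⟨y, ⟨hy1, hy2⟩, rfl⟩ := hu
        obtain ⟨z, hz, hzy⟩ := Subgroup.mem_map.1 hy1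
        refine ⟨⟨d, hBX hd⟩ * y * ⟨d, hBX hd⟩⁻¹, Subgroup.mem_inf.2
          ⟨⟨⟨d, hBX hd⟩ * z * ⟨d, hBX hd⟩⁻¹, mul_mem (mul_mem hd hz) (inv_mem hd), ?_⟩,
            mem_subgroupOf.2 (by simpa using H75.conj_mem_of_mem_normalizer (hXe (hBX hd)) (mem_subgroupOf.1 hy2))⟩, rfl⟩
        rw [map_mul, map_mul, map_mul, map_mul, hzy]
      have h1 := hsyl (B ⊔ U) (sup_le hBX hUX) (hBp.to_sup_of_normal_right' hUp hBU) le_sup_left
      refine h1.le (mem_sup_right ⟨g, ⟨?_, hg⟩, rfl⟩)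
      exact ⟨⟨c, hBX hc⟩, hc, by rw [ha, hga]⟩
    have hk : ((g : G))⁻¹ * c ∈ C := hfC (g⁻¹ * ⟨c, hBX hc⟩) (mul_mem (inv_mem hgB) hc)
      (by rw [map_mul, map_inv, hga, ha, inv_mul_cancel])
    refine ⟨ρ ⟨g, hg⟩, fun v => ?_⟩
    rw [show c = (g : G) * ((g : G)⁻¹ * c) by group,
      S.act_mul (hNz _ g.2) (hNz _ (mul_mem (inv_mem g.2) (hBX hc))), hCact _ hk]
    exact hact ⟨g, hg⟩ v
  choose! σ hσ using hlin
  have hσ1 : ∀ c ∈ B, (σ c = 1 ↔ c ∈ C) := fun c hc => by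
    refine ⟨fun h => hfixC c hc fun v => ?_, fun h => H78.Block.sl2v_injective_left fun v => ?_⟩
    · rw [hσ c hc, h, H78.Block.sl2v_one]
    · rw [← hσ c hc, hCact c h, H78.Block.sl2v_one]
  have hσm : ∀ c ∈ B, ∀ d ∈ B, σ (c * d) = σ c * σ d := fun c hc d hd =>
    H78.Block.sl2v_injective_left fun v => by
      rw [← hσ _ (mul_mem hc hd), S.act_mul (hNz _ (hBX hc)) (hNz _ (hBX hd)), hσ d hd, hσ c hc,
        H78.Block.sl2v_mul]
  have hσsq : ∀ c ∈ B, σ c * σ c = 1 := fun c hc => by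
    rw [← hσm c hc c hc, hσ1 _ (mul_mem hc hc)]
    obtain ⟨a, ha⟩ := hfB ⟨c, hBX hc⟩ hc
    exact hfC (⟨c, hBX hc⟩ * ⟨c, hBX hc⟩) (mul_mem hc hc) (by rw [map_mul, ha, hsq])
  have hσc : ∀ c ∈ B, ∀ d ∈ B, σ c * σ d = σ d * σ c := fun c hc d hd => by
    have h := hσsq _ (mul_mem hc hd)
    rw [hσm c hc d hd] at h
    calc σ c * σ d = (σ c * σ d)⁻¹ := (inv_eq_of_mul_eq_one_right h).symm
      _ = (σ d)⁻¹ * (σ c)⁻¹ := mul_inv_rev _ _
      _ = _ := by rw [inv_eq_of_mul_eq_one_right (hσsq d hd), inv_eq_of_mul_eq_one_right (hσsq c hc)]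
  -- `|B : C| = |F|`
  have hBC : Nat.card B = Nat.card C * Nat.card F := by
    let φ : ↥B →* Matrix.ProjectiveSpecialLinearGroup (Fin 2) F := f.comp (inclusion hBX)
    have hrg : φ.range = (upperSub F).map H39.proj := by
      ext t
      constructor
      · rintro ⟨y, rfl⟩
        obtain ⟨a, ha⟩ := hfB (inclusion hBX y) y.2
        exact ⟨H98.uu a, mem_upper.2 ⟨a, rfl⟩, by rw [proj_uu]; exact ha.symm⟩
      · rintro ⟨g, hg, rfl⟩
        obtain ⟨a, rfl⟩ := mem_upper.1 hg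
        obtain ⟨y, hy, hya⟩ := (hBimg _).2 ⟨a, rfl⟩
        exact ⟨⟨y, hy⟩, by rw [proj_uu]; exact hya⟩
    have hk : φ.ker = C.subgroupOf B := by
      ext y
      exact ⟨fun h => hfC (inclusion hBX y) y.2 h, fun h => hCf (inclusion hBX y) h⟩
    have h1 := card_mul_index φ.ker
    rw [index_ker, hrg, card_map_of_injective Two.proj_injective, card_upper, hk] at h1
    rw [← h1, Nat.card_congr (subgroupOfEquivOfLe (inf_le_left : C ≤ B)).toEquiv]
  have hFc : 1 < Nat.card F := Finite.one_lt_card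
  obtain ⟨b0, hb0, hb0C⟩ : ∃ b0 ∈ B, b0 ∉ C := by
    by_contra hcon
    push Not at hcon
    have : Nat.card B ≤ Nat.card C := card_le_of_le hcon
    have h3 : 0 < Nat.card C := Nat.card_pos
    nlinarith
  have hσ0 : σ b0 ≠ 1 := fun h => hb0C ((hσ1 b0 hb0).1 h)
  -- fixed points
  let W₁ : Subgroup G :=
    { carrier := {u | u ∈ W ∧ ∀ b ∈ B, ⁅u, b⁆ ∈ Z}
      one_mem' := ⟨one_mem _, fun b _ => by simp⟩
      mul_mem' := fun {u v} hu hv => ⟨mul_mem hu.1 hv.1, fun b hb => by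
        rw [show ⁅u * v, b⁆ = u * ⁅v, b⁆ * u⁻¹ * ⁅u, b⁆ by simp [commutatorElement_def]; group]
        refine mul_mem ?_ (hu.2 b hb)
        rw [hWab u hu.1 _ (hv.2 b hb).1, mul_inv_cancel_right]
        exact hv.2 b hb⟩
      inv_mem' := fun {u} hu => by
        rw [inv_eq_of_mul_eq_one_right (hW2 u hu.1)]
        exact hu }
  have hfix : ∀ u ∈ W, ∀ b ∈ B, ⁅u, b⁆ ∈ Z ↔ sl2v (σ b) (S.img u) = S.img u := by
    intro u hu b hb
    have hbN := hNz b (hBX hb)
    rw [← hσ b hb, ← sub_eq_zero, ← S.img_commutator hbN (hU ▸ hu),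
      S.img_eq_zero (S.commutator_mem_U hbN (hU ▸ hu)), hU₀, ← inv_mem_iff, commutatorElement_inv]
  have hmemZ : ∀ {u : G}, u ∈ W → ∀ b ∈ B, ⁅u, b⁆ ∈ centralizer (e : Set G) → ⁅u, b⁆ ∈ Z := by
    intro u hu b hb h
    refine Subgroup.mem_inf.2 ⟨?_, h⟩
    rw [commutatorElement_def, mul_assoc, mul_assoc]
    refine mul_mem hu ?_
    rw [← mul_assoc]
    exact H75.conj_mem_of_mem_normalizer (hXW (hBX hb)) (inv_mem hu)
  have hW1mem : ∀ u, u ∈ W₁ ↔ u ∈ W ∧ sl2v (σ b0) (S.img u) = S.img u := by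
    intro u
    refine ⟨fun h => ⟨h.1, (hfix u h.1 b0 hb0).1 (h.2 b0 hb0)⟩, fun h => ⟨h.1, fun b hb => ?_⟩⟩
    exact (hfix u h.1 b hb).2 (Two.fix_sub hσ0 (hσsq b0 hb0) (hσsq b hb) (hσc b0 hb0 b hb) h.2)
  refine ⟨B ⊓ centralizer (e : Set G), W₁, ⟨hWB, hBX.trans hXW, hW2,
    le_inf inf_le_left (inf_le_right.trans (centralizer_le hWe)), fun c hc d hd => ?_,
    fun c hc d hd => ?_, fun c hc => ?_, fun u hu => hu.1, fun u hu c hc => ?_,
    fun c hc hcC u hu hcu => ?_, ?_⟩, hCe, hQe, ?_⟩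
  · exact Subgroup.mem_inf.2 ⟨mul_mem (mul_mem hc hd.1) (inv_mem hc), H75.conj_mem_of_mem_normalizer
      (H75.normalizer_le_normalizer_centralizer e (hXe (hBX hc))) hd.2⟩
  · refine Subgroup.mem_inf.2 ⟨?_, mem_centralizer_iff.2 fun g hg => ?_⟩
    · rw [commutatorElement_def]
      exact mul_mem (mul_mem (mul_mem hc.1 hd.1) (inv_mem hc.1)) (inv_mem hd.1)
    -- both products move `g` in the same way
    have key : ∀ c ∈ C, ∀ d ∈ C, ∀ g ∈ e,
        c * d * g * (c * d)⁻¹ = (⁅g, d⁆⁻¹ * ⁅g, c⁆⁻¹) * g := by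
      intro c hc d hd g hg
      have h1 : c * ⁅g, d⁆⁻¹ * c⁻¹ = ⁅g, d⁆⁻¹ := by
        rw [← mem_centralizer_iff.1 hc.2 _ (inv_mem (hCe g hg d hd)), mul_inv_cancel_right]
      calc c * d * g * (c * d)⁻¹ = (c * ⁅g, d⁆⁻¹ * c⁻¹) * ⁅g, c⁆⁻¹ * g := by
            simp only [commutatorElement_def]; group
        _ = _ := by rw [h1]
    have hcd : c * d * g * (c * d)⁻¹ = d * c * g * (d * c)⁻¹ := by
      rw [key c hc d hd g hg, key d hd c hc g hg,
        hWab _ (inv_mem (hCe g hg d hd)) _ (inv_mem (hCe g hg c hc))]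
    calc g * ⁅c, d⁆ = (d * c)⁻¹⁻¹ * ((d * c)⁻¹ * g * (d * c)) * (d * c)⁻¹ * (c * d * (d * c)⁻¹) := by
          simp only [commutatorElement_def]; group
      _ = (c * d) * ((d * c)⁻¹ * g * (d * c)) * (c * d)⁻¹ * (c * d * (d * c)⁻¹) := by
          have hmem : (d * c)⁻¹ * g * (d * c) ∈ e :=
            H75.conj'_mem_of_mem_normalizer (hXe (mul_mem (hBX hd.1) (hBX hc.1))) hg
          have := (key c hc d hd _ hmem).trans (((key d hd c hc _ hmem).trans (by
            rw [hWab _ (inv_mem (hCe _ hmem c hc)) _ (inv_mem (hCe _ hmem d hd))])).symm)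
          rw [this]; group
      _ = ⁅c, d⁆ * g := by simp only [commutatorElement_def]; group
  · refine Subgroup.mem_inf.2 ⟨mul_mem hc.1 hc.1, mem_centralizer_iff.2 fun g hg => ?_⟩
    have h1 : c * ⁅g, c⁆⁻¹ * c⁻¹ = ⁅g, c⁆⁻¹ := by
      rw [← mem_centralizer_iff.1 hc.2 _ (inv_mem (hCe g hg c hc)), mul_inv_cancel_right]
    have h2 : c * c * g * (c * c)⁻¹ = g := by
      calc c * c * g * (c * c)⁻¹ = (c * ⁅g, c⁆⁻¹ * c⁻¹) * ⁅g, c⁆⁻¹ * g := by
            simp only [commutatorElement_def]; group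
        _ = g := by rw [h1, hW2 _ (inv_mem (hCe g hg c hc)), one_mul]
    exact (mul_inv_eq_iff_eq_mul.1 h2).symm
  · exact Subgroup.mem_inf.2 ⟨hWB (hu.2 c hc).1, (hu.2 c hc).2⟩
  · refine (hW1mem u).2 ⟨hu, ?_⟩
    have h1 := (hfix u hu c hc).1 (hmemZ hu c hc hcu.2)
    exact Two.fix_sub (fun h => hcC ((hσ1 c hc).1 h)) (hσsq c hc) (hσsq b0 hb0) (hσc c hc b0 hb0) h1
  · -- `|W : W₁| = |F|`
    let Fx : AddSubgroup (Fin 2 → F) :=
      { carrier := {v | sl2v (σ b0) v = v}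
        add_mem' := fun {u v} hu hv => by
          show sl2v (σ b0) (u + v) = u + v
          rw [sl2v, Matrix.mulVec_add]; exact congrArg₂ (· + ·) hu hv
        zero_mem' := by show sl2v (σ b0) 0 = 0; rw [sl2v, Matrix.mulVec_zero]
        neg_mem' := fun {u} hu => by
          show sl2v (σ b0) (-u) = -u
          rw [sl2v, Matrix.mulVec_neg]; exact congrArg Neg.neg hu }
    have hFx : Nat.card Fx = Nat.card F := Two.card_fix hσ0 (hσsq b0 hb0)
    have hcom : W₁.subgroupOf S.U = (AddSubgroup.toSubgroup Fx).comap S.ψ := by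
      ext u
      rw [mem_subgroupOf, hW1mem, Subgroup.mem_comap]
      constructor
      · rintro ⟨-, h⟩
        rw [S.img_apply u.2] at h
        exact h
      · intro h
        refine ⟨hU ▸ u.2, ?_⟩
        rw [S.img_apply u.2]
        exact h
    have hFxi : (AddSubgroup.toSubgroup Fx).index = Nat.card F := by
      have h1 := card_mul_index (AddSubgroup.toSubgroup Fx)
      have h2 : Nat.card (Multiplicative (Fin 2 → F)) = Nat.card F * Nat.card F := by
        rw [Nat.card_congr Multiplicative.toAdd, Nat.card_fun, Nat.card_fin, sq]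
      rw [h2, show Nat.card (AddSubgroup.toSubgroup Fx) = Nat.card F from hFx] at h1
      exact Nat.eq_of_mul_eq_mul_left Nat.card_pos h1
    have h1 := card_mul_index (W₁.subgroupOf S.U)
    rw [Nat.card_congr (subgroupOfEquivOfLe (hU.ge.trans' fun u hu => hu.1 : W₁ ≤ S.U)).toEquiv,
      hcom, index_comap_of_surjective _ S.surj, hFxi, hU] at h1
    rw [← h1, hBC]
    ring
  · intro h0
    have h1 : Nat.card W ≤ 1 := by rw [h0, Subgroup.card_bot]
    obtain ⟨u, hu⟩ := S.surj (Multiplicative.ofAdd ![1, 0])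
    have hu1 : (u : G) = 1 := by
      exact mem_bot.1 ((hU.trans h0).le u.2)
    have : S.ψ u = 1 := by rw [show u = 1 from Subtype.ext hu1, map_one]
    rw [this] at hu
    simpa using congrFun (congrArg Multiplicative.toAdd hu) 0

end H29.OddPush
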