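import Cfsg.Agent.H29.OddPush.Block
import Cfsg.Agent.H80.PM.Main

/-!
Pushing up odd automorphisms of a Sylow `2`-subgroup.
-/

set_option autoImplicit false
set_option linter.unusedSectionVars false

open Subgroup
open scoped commutatorElement

namespace H29.OddPush

variable {G : Type*} [Group G] [Finite G]

theorem Good.subgroupOf {B W D W₁ H : Subgroup G} (h : Good B W D W₁) (hBH : B ≤ H) :
    Good (B.subgroupOf H) (W.subgroupOf H) (D.subgroupOf H) (W₁.subgroupOf H) ∧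
      cB (B.subgroupOf H) (W.subgroupOf H) = (cB B W).subgroupOf H := by
  have hWH : W ≤ H := h.le.trans hBH
  have hc : cB (B.subgroupOf H) (W.subgroupOf H) = (cB B W).subgroupOf H := by
    ext x
    simp only [cB, mem_inf, mem_subgroupOf, mem_centralizer_iff, SetLike.mem_coe]
    refine and_congr_right fun _ => ⟨fun hx w hw => ?_, fun hx w hw => ?_⟩
    · exact congrArg Subtype.val (hx ⟨w, hWH hw⟩ hw)
    · exact Subtype.ext (hx w hw)
  have hcard : ∀ K : Subgroup G, K ≤ H → Nat.card ↥(K.subgroupOf H) = Nat.card K := fun K hK =>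
    Nat.card_congr (subgroupOfEquivOfLe hK).toEquiv
  refine ⟨⟨comap_mono h.le, ?_, fun u hu => ?_, ?_, fun b hb d hd => ?_,
    fun c hc1 c' hc2 => ?_, fun c hc1 => ?_, comap_mono h.W1le, fun u hu b hb => ?_,
    fun b hb hbC u hu hcu => ?_, ?_⟩, hc⟩
  · exact H75.le_normalizer_of_conj fun b hb u hu =>
      mem_subgroupOf.2 (by simpa using H75.conj_mem_of_mem_normalizer (h.norm hb) (mem_subgroupOf.1 hu))
  · exact Subtype.ext (h.sq _ hu)
  · rw [hc]; exact comap_mono h.Dle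
  · exact mem_subgroupOf.2 (by simpa using h.Dnorm _ hb _ hd)
  · rw [hc] at hc1 hc2
    exact mem_subgroupOf.2 (by simpa [commutatorElement_def] using h.comm _ hc1 _ hc2)
  · rw [hc] at hc1
    exact mem_subgroupOf.2 (by simpa using h.csq _ hc1)
  · exact mem_subgroupOf.2 (by simpa [commutatorElement_def] using h.W1comm _ hu _ hb)
  · rw [hc] at hbC
    exact h.fix _ hb hbC _ hu (by simpa [commutatorElement_def, mem_subgroupOf] using hcu)
  · rw [hc, hcard _ hWH, hcard _ (inf_le_left.trans hBH), hcard _ hBH,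
      hcard _ (h.W1le.trans hWH)]
    exact h.card

open H78.Block (maxEl baumann_eq')

/-- `B(T)` is invariant under the automorphisms of `T`. -/
theorem baumann_invariant {p : ℕ} [Fact p.Prime] (T : Sylow p G) (a : MulAut ↥(T : Subgroup G))
    (x : ↥(T : Subgroup G)) (hx : (x : G) ∈ Cfsg.baumannSubgroupOf p (T : Subgroup G)) :
    ((a x : ↥(T : Subgroup G)) : G) ∈ Cfsg.baumannSubgroupOf p (T : Subgroup G) := by
  have hI : ∀ (a : MulAut ↥(T : Subgroup G)) (y : ↥(T : Subgroup G)),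
      (y : G) ∈ sInf (maxEl p (T : Subgroup G)) →
      ((a y : ↥(T : Subgroup G)) : G) ∈ sInf (maxEl p (T : Subgroup G)) := by
    intro a y hy
    refine mem_sInf.2 fun A hA => ?_
    let f : ↥(T : Subgroup G) →* G :=
      (T : Subgroup G).subtype.comp (a⁻¹ : MulAut ↥(T : Subgroup G)).toMonoidHom
    have hf : Function.Injective f := (T : Subgroup G).subtype_injective.comp (MulEquiv.injective _)
    have hA' : (A.subgroupOf T).map f ∈ maxEl p (T : Subgroup G) := by
      refine ⟨?_, ?_, fun B hB hBel => ?_⟩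
      · rintro _ ⟨z, -, rfl⟩
        exact ((a⁻¹ : MulAut ↥(T : Subgroup G)) z).2
      · refine ⟨H11.isMulCommutative_of_commute ?_, ?_⟩
        · rintro _ ⟨u, hu, rfl⟩ _ ⟨v, hv, rfl⟩
          rw [← map_mul, ← map_mul]
          exact congrArg f (Subtype.ext (H10.comm_of_elem hA.2.1 hu hv))
        · rintro _ ⟨u, hu, rfl⟩
          rw [← map_pow, show u ^ p = 1 from Subtype.ext (by simpa using hA.2.1.2 u hu), map_one]
      · rw [card_map_of_injective hf, Nat.card_congr (subgroupOfEquivOfLe hA.1).toEquiv]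
        exact hA.2.2 B hB hBel
    obtain ⟨z, hz, hzy⟩ := mem_sInf.1 hy _ hA'
    have h1 : (a⁻¹ : MulAut ↥(T : Subgroup G)) z = y := Subtype.ext hzy
    rw [← h1]
    simpa [mem_subgroupOf] using hz
  rw [baumann_eq'] at hx ⊢
  refine Subgroup.mem_inf.2 ⟨(a x).2, mem_centralizer_iff.2 fun y hy => ?_⟩
  obtain ⟨A₀, hA₀⟩ := H11.maxFam_nonempty (H11.replProp_elem (G := G) p).bot (T : Subgroup G)
  have hyT : y ∈ (T : Subgroup G) := hA₀.1 (mem_sInf.1 hy A₀ hA₀)
  have h1 := mem_centralizer_iff.1 hx.2 _ (hI a⁻¹ ⟨y, hyT⟩ hy)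
  have h2 : (a⁻¹ : MulAut ↥(T : Subgroup G)) ⟨y, hyT⟩ * x =
      x * (a⁻¹ : MulAut ↥(T : Subgroup G)) ⟨y, hyT⟩ := Subtype.ext h1
  have h3 := congrArg a h2
  simp only [map_mul, MulAut.apply_inv_self] at h3
  exact congrArg Subtype.val h3

/-- A nontrivial invariant normal subgroup inside a Sylow `2`-subgroup. -/
theorem exists_invariant [Fact (Nat.Prime 2)]
    (hirr : ∀ S : Sylow 2 G, ∃! M : Subgroup G, IsCoatom M ∧ (S : Subgroup G) ≤ M)
    (hchar : centralizer (Cfsg.pCore 2 G : Set G) ≤ Cfsg.pCore 2 G) (T : Sylow 2 G)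
    (A : Subgroup (MulAut ↥(T : Subgroup G))) (hA : Odd (Nat.card A)) :
    ∃ U : Subgroup G, U ≠ ⊥ ∧ U.Normal ∧ U ≤ (T : Subgroup G) ∧
      ∀ a ∈ A, ∀ x : ↥(T : Subgroup G), (x : G) ∈ U → ((a x : ↥(T : Subgroup G)) : G) ∈ U := by
  classical
  have hT : (T : Subgroup G) ≠ ⊥ := by
    intro h
    have h1 : Cfsg.pCore 2 G = ⊥ := le_bot_iff.1 ((H1.pCore_le_sylow T).trans h.le)
    obtain ⟨M, ⟨hM, -⟩, -⟩ := hirr T
    refine hM.1 (top_le_iff.1 fun g _ => ?_)
    have : g = 1 := mem_bot.1 (h1.le (hchar (mem_centralizer_iff.2 fun y hy => by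
      rw [mem_bot.1 (h1.le hy), one_mul, mul_one])))
    rw [this]
    exact one_mem M
  by_cases hTn : (T : Subgroup G).Normal
  · exact ⟨_, hT, hTn, le_rfl, fun a _ x _ => (a x).2⟩
  have hmin : Cfsg.IsPMinimal 2 G := fun S => ⟨fun hS => hTn (by
    haveI := Sylow.unique_of_normal S hS
    rwa [Subsingleton.elim T S]), hirr S⟩
  set B := H80.PM.bT 2 (T : Subgroup G) with hB
  have hBT : B ≤ (T : Subgroup G) := inf_le_left
  by_cases hchr : ∃ C : Subgroup G, C ≤ B ∧ C ≠ ⊥ ∧ (C.subgroupOf B).Characteristic ∧ C.Normal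
  · obtain ⟨C, hCB, hC0, hCc, hCn⟩ := hchr
    refine ⟨C, hC0, hCn, hCB.trans hBT, fun a _ x hx => ?_⟩
    let φ : ↥B ≃* ↥B :=
      { toFun := fun b => ⟨_, baumann_invariant T a ⟨b, hBT b.2⟩ b.2⟩
        invFun := fun b => ⟨_, baumann_invariant T a⁻¹ ⟨b, hBT b.2⟩ b.2⟩
        left_inv := fun b => by ext; simp
        right_inv := fun b => by ext; simp
        map_mul' := fun b c => by
          ext
          show ((a ((⟨(b : G), hBT b.2⟩ : ↥(T : Subgroup G)) * ⟨(c : G), hBT c.2⟩) : ↥(T : Subgroup G)) : G) = _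
          rw [map_mul]; rfl }
    have h1 := characteristic_iff_comap_eq.1 hCc φ
    have h2 : (⟨(x : G), hCB hx⟩ : ↥B) ∈ (C.subgroupOf B).comap φ.toMonoidHom := by
      rw [h1]; exact hx
    exact h2
  push Not at hchr
  have hnochar : ∀ C : Subgroup G, C ≤ B → C ≠ ⊥ → (C.subgroupOf B).Characteristic → ¬ C.Normal :=
    fun C h1 h2 h3 => hchr C h1 h2 h3
  by_cases hz : (Cfsg.omegaOneCenter 2 (T : Subgroup G)).Normal
  · refine ⟨_, fun h => ?_, hz, fun x hx => (H80.LCSS.mem_omega.1 hx).1, fun a _ x hx => ?_⟩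
    · haveI : Nontrivial ↥(T : Subgroup G) := (nontrivial_iff_ne_bot _).2 hT
      haveI := T.isPGroup'.center_nontrivial
      have hdvd : 2 ∣ Nat.card (Subgroup.center ↥(T : Subgroup G)) := by
        obtain ⟨k, hk⟩ := IsPGroup.iff_card.1 (T.isPGroup'.to_subgroup (Subgroup.center _))
        rw [hk]
        refine dvd_pow_self 2 fun h0 => ?_
        rw [h0, pow_zero] at hk
        exact (Finite.one_lt_card (α := Subgroup.center ↥(T : Subgroup G))).ne' hk
      obtain ⟨z, hz2⟩ := exists_prime_orderOf_dvd_card' 2 hdvd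
      have hzm : ((z : ↥(T : Subgroup G)) : G) ∈ Cfsg.omegaOneCenter 2 (T : Subgroup G) := by
        refine H80.LCSS.mem_omega.2 ⟨z.1.2, mem_centralizer_iff.2 fun y hy => ?_, ?_⟩
        · exact congrArg Subtype.val (mem_center_iff.1 z.2 ⟨y, hy⟩)
        · have := pow_orderOf_eq_one z
          rw [hz2] at this
          simpa using congrArg (fun u : ↥(Subgroup.center ↥(T : Subgroup G)) => ((u : ↥(T : Subgroup G)) : G)) this
      rw [h, mem_bot, OneMemClass.coe_eq_one, OneMemClass.coe_eq_one] at hzm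
      rw [hzm, orderOf_one] at hz2
      norm_num at hz2
    · obtain ⟨-, h2, h3⟩ := H80.LCSS.mem_omega.1 hx
      refine H80.LCSS.mem_omega.2 ⟨(a x).2, mem_centralizer_iff.2 fun y hy => ?_, ?_⟩
      · obtain ⟨w, hw⟩ := a.surjective ⟨y, hy⟩
        have h4 : w * x = x * w := Subtype.ext (mem_centralizer_iff.1 h2 w w.2)
        have h5 := congrArg a h4
        rw [map_mul, map_mul, hw] at h5
        exact congrArg Subtype.val h5
      · have h4 : x ^ 2 = 1 := Subtype.ext (by simpa using h3)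
        rw [← SubgroupClass.coe_pow, ← map_pow, h4, map_one]
        rfl
  have hne := H80.PM.cStarStar_ne_top hmin T hnochar hz
  obtain ⟨M, d⟩ := H80.LCSS.exists_data hmin hchar T hne
  have s : H80.PM.Setting 2 T M := ⟨hmin, d, hne, hnochar⟩
  -- one block
  obtain ⟨X, e, hXM, hsup, hblock, D, W₁, hgood, hCe, hQe, hW0⟩ : ∃ X e : Subgroup G,
      ¬ X ≤ M ∧ e ⊔ B = X ∧ Cfsg.IsBaumannBlock 2 (T : Subgroup G) e ∧ ∃ D W₁ : Subgroup G,
        Good B (Cfsg.pCoreOf 2 e) D W₁ ∧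
        (∀ g ∈ e, ∀ c ∈ cB B (Cfsg.pCoreOf 2 e), ⁅g, c⁆ ∈ Cfsg.pCoreOf 2 e) ∧
        ⁅Cfsg.pCoreOf 2 e, e⁆ = Cfsg.pCoreOf 2 e ∧ Cfsg.pCoreOf 2 e ≠ ⊥ := by
    rcases H75.PMC.hasComps hmin hchar T hne with
      ⟨F, _, _, n, r, E, π, hn, hF, c, -, x, fr⟩ | ⟨-, k, m, r, E, π, hk2, hkm, c, -, x, fr⟩
    · have pc := H80.PM.Lin.pieceData s c hF ⟨0, c.pos⟩
      obtain ⟨X, e, b⟩ := s.exists_block fr hF pc
      exact ⟨X, e, pc.out X (b.le.trans inf_le_right) (s.jT_le_bT.trans b.bT_le) b.surj,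
        b.sup, b.block, good_block s fr hn hF pc b⟩
    · have h4 : 2 ^ 2 ≤ 2 ^ k := Nat.pow_le_pow_right (by norm_num) hk2
      have hm : 0 < m := by norm_num at h4; omega
      obtain ⟨μ, hμ⟩ := H80.PM.SP.exists_mu
      have pc := H80.PM.Sym.pieceData s c (k := k) (by omega) μ hμ ⟨0, c.pos⟩ ⟨0, hm⟩
      have hF : Fintype.card (ZMod 2) = 2 ^ 1 := by simp
      obtain ⟨X, e, b⟩ := s.exists_block fr hF pc
      exact ⟨X, e, pc.out X (b.le.trans inf_le_right) (s.jT_le_bT.trans b.bT_le) b.surj,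
        b.sup, b.block, good_block s fr one_pos hF pc b⟩
  set W := Cfsg.pCoreOf 2 e with hWdef
  have hWQ : W ≤ H80.LCSS.modV 2 G := by
    have h1 := (H78.Block.facts_of_block hblock).mod_le_omega hchar
      (H78.Block.pCore_le_normalizer hblock)
    refine le_trans (le_of_eq ?_) h1
    show W = ⁅Cfsg.omegaOneCenter 2 (Cfsg.pCoreOf 2 e), e⁆
    rw [← hWdef]
    refine hQe.symm.trans (congrArg (fun K => ⁅K, e⁆) (le_antisymm (fun u hu => ?_)
      fun u hu => (H80.LCSS.mem_omega.1 hu).1))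
    refine H80.LCSS.mem_omega.2 ⟨hu, mem_centralizer_iff.2 fun v hv => ?_, ?_⟩
    · exact (mem_centralizer_iff.1 (hgood.self_le hv).2 u hu).symm
    · rw [sq]; exact hgood.sq u hu
  have hTB : (T : Subgroup G) ≤ normalizer (B : Set G) :=
    H78.Block.le_normalizer_baumann T T.isPGroup' (s.bT_le_T.trans le_normalizer)
  have hWB : W ≤ B := hgood.le
  -- inside `T`
  obtain ⟨hgood', hcB⟩ := hgood.subgroupOf hBT
  haveI : (B.subgroupOf (T : Subgroup G)).Normal := normal_subgroupOf_of_le_normalizer hTB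
  have hAB : ∀ a ∈ A, (B.subgroupOf (T : Subgroup G)).map a.toMonoidHom =
      B.subgroupOf (T : Subgroup G) := by
    intro a _
    refine le_antisymm (by rintro _ ⟨x, hx, rfl⟩; exact baumann_invariant T a x hx) fun x hx => ?_
    exact ⟨a⁻¹ x, baumann_invariant T a⁻¹ x hx, by simp⟩
  have hWc : ∀ g : ↥(T : Subgroup G), (W.subgroupOf (T : Subgroup G)).map (MulAut.conj g).toMonoidHom ≤
      cB (B.subgroupOf (T : Subgroup G)) (W.subgroupOf (T : Subgroup G)) := by
    intro g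
    rw [hcB]
    rintro _ ⟨w, hw, rfl⟩
    have hgw : (g : G) * w * (g : G)⁻¹ ∈ H80.LCSS.modV 2 G :=
      (H80.PM.Setting.modV_normal).conj_mem _ (hWQ hw) _
    refine Subgroup.mem_inf.2 ⟨?_, mem_centralizer_iff.2 fun v hv => ?_⟩
    · simpa using H75.conj_mem_of_mem_normalizer (hTB g.2) (hWB hw)
    · have := H10.comm_of_elem (H80.PM.Setting.modV_elem (p := 2) (G := G)) (hWQ hv) hgw
      simpa using this
  have himg := images_commute A hA hAB hgood' hWc
  rw [hcB] at himg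
  -- the invariant subgroup
  set U' : Subgroup ↥(T : Subgroup G) := ⨆ (a : A) (g : ↥(T : Subgroup G)),
    ((W.subgroupOf (T : Subgroup G)).map (a.1 : MulAut ↥(T : Subgroup G)).toMonoidHom).map
      (MulAut.conj g).toMonoidHom with hU'
  set U := U'.map (T : Subgroup G).subtype with hU
  have hWU : W ≤ U := by
    intro w hw
    refine ⟨⟨w, hBT (hWB hw)⟩, ?_, rfl⟩
    refine mem_iSup_of_mem (1 : A) (mem_iSup_of_mem 1 ?_)
    exact ⟨⟨w, hBT (hWB hw)⟩, ⟨⟨w, hBT (hWB hw)⟩, hw, by simp⟩, by simp⟩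
  have hUC : U ≤ cB B W := by
    rw [hU, map_le_iff_le_comap]
    exact iSup_le fun a => iSup_le fun g => himg a.1 a.2 g
  have hUT : U ≤ (T : Subgroup G) := map_subtype_le _
  have hTU : (T : Subgroup G) ≤ normalizer (U : Set G) := by
    have hmv : ∀ h : ↥(T : Subgroup G), U'.map (MulAut.conj h).toMonoidHom ≤ U' := by
      intro h
      simp only [hU', Subgroup.map_iSup]
      refine iSup_le fun a => iSup_le fun g => le_iSup_of_le a (le_iSup_of_le (h * g) ?_)
      rintro _ ⟨_, ⟨z, hz, rfl⟩, rfl⟩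
      exact ⟨z, hz, by simp [mul_assoc]⟩
    refine H75.le_normalizer_of_conj fun g hg u hu => ?_
    obtain ⟨u', hu', rfl⟩ := hu
    exact ⟨_, hmv ⟨g, hg⟩ (mem_map_of_mem _ hu'), by simp⟩
  have heU : e ≤ normalizer (U : Set G) := by
    refine H75.le_normalizer_of_conj fun g hg u hu => ?_
    rw [show g * u * g⁻¹ = ⁅g, u⁆ * u by rw [commutatorElement_def]; group]
    exact mul_mem (hWU (hCe g hg u (hUC hu))) hu
  have htop : e ⊔ (T : Subgroup G) = ⊤ := by
    by_contra h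
    exact hXM (hsup.ge.trans ((sup_le_sup_left hBT e).trans (d.uniq _ le_sup_right h)))
  refine ⟨U, fun h => hW0 (le_bot_iff.1 (hWU.trans h.le)),
    normalizer_eq_top_iff.1 (top_le_iff.1 (htop.ge.trans (sup_le heU hTU))), hUT,
    fun a ha x hx => ?_⟩
  obtain ⟨x', hx', hxx⟩ := hx
  obtain rfl : x' = x := Subtype.ext hxx
  have hmv : U'.map (a : MulAut ↥(T : Subgroup G)).toMonoidHom ≤ U' := by
    simp only [hU', Subgroup.map_iSup]
    refine iSup_le fun b => iSup_le fun g =>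
      le_iSup_of_le ((⟨a, ha⟩ : A) * b) (le_iSup_of_le (a g) ?_)
    rintro _ ⟨_, ⟨_, ⟨z, hz, rfl⟩, rfl⟩, rfl⟩
    exact ⟨_, ⟨z, hz, rfl⟩, by simp [MulAut.mul_apply]⟩
  exact ⟨_, hmv (mem_map_of_mem _ hx'), rfl⟩

end H29.OddPush
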