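import Mathlib
import Cfsg.Agent.H78.BlockMap
import Cfsg.Agent.H10.Offender
import Cfsg.Agent.H75.Basic

/-!
Images of a natural module under automorphisms of odd order commute with it.
-/

set_option autoImplicit false
set_option linter.unusedSectionVars false

open Subgroup
open scoped commutatorElement Pointwise

namespace H29.OddPush

variable {P : Type*} [Group P] [Finite P]

/-- The centraliser of `W` in `B`. -/
abbrev cB (B W : Subgroup P) : Subgroup P := B ⊓ centralizer (W : Set P)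

/-- `B` acts on `W` as an abelian group whose nontrivial elements have the same fixed points. -/
structure Good (B W D W₁ : Subgroup P) : Prop where
  le : W ≤ B
  norm : B ≤ normalizer (W : Set P)
  sq : ∀ u ∈ W, u * u = 1
  Dle : D ≤ cB B W
  Dnorm : ∀ b ∈ B, ∀ d ∈ D, b * d * b⁻¹ ∈ D
  comm : ∀ c ∈ cB B W, ∀ c' ∈ cB B W, ⁅c, c'⁆ ∈ D
  csq : ∀ c ∈ cB B W, c * c ∈ D
  W1le : W₁ ≤ W
  W1comm : ∀ u ∈ W₁, ∀ b ∈ B, ⁅u, b⁆ ∈ D
  fix : ∀ b ∈ B, b ∉ cB B W → ∀ u ∈ W, ⁅u, b⁆ ∈ D → u ∈ W₁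
  card : Nat.card W * Nat.card ↥(cB B W) = Nat.card B * Nat.card W₁

namespace Good

variable {B W D W₁ : Subgroup P}

theorem self_le (h : Good B W D W₁) : W ≤ cB B W := by
  refine le_inf h.le fun u hu => mem_centralizer_iff.2 fun v hv => ?_
  have hinv : ∀ x ∈ W, x⁻¹ = x := fun x hx => inv_eq_of_mul_eq_one_right (h.sq x hx)
  calc v * u = v⁻¹ * u⁻¹ := by rw [hinv v hv, hinv u hu]
    _ = (u * v)⁻¹ := by rw [mul_inv_rev]
    _ = u * v := hinv _ (mul_mem hu hv)

theorem norm_cB (h : Good B W D W₁) : B ≤ normalizer (cB B W : Set P) := by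
  refine H75.le_normalizer_of_conj fun b hb c hc =>
    Subgroup.mem_inf.2 ⟨mul_mem (mul_mem hb hc.1) (inv_mem hb), ?_⟩
  refine mem_centralizer_iff.2 fun w hw => ?_
  have hw' : b⁻¹ * w * b ∈ W := H75.conj'_mem_of_mem_normalizer (h.norm hb) hw
  have h1 : (b⁻¹ * w * b) * c = c * (b⁻¹ * w * b) := mem_centralizer_iff.1 hc.2 _ hw'
  calc w * (b * c * b⁻¹) = b * ((b⁻¹ * w * b) * c) * b⁻¹ := by group
    _ = b * (c * (b⁻¹ * w * b)) * b⁻¹ := by rw [h1]
    _ = b * c * b⁻¹ * w := by group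

/-- The elements of `C_B(W)` fixed by `B` modulo `D`. -/
def fixC (h : Good B W D W₁) : Subgroup P where
  carrier := {c | c ∈ cB B W ∧ ∀ b ∈ B, ⁅c, b⁆ ∈ D}
  one_mem' := ⟨one_mem _, fun b _ => by simp⟩
  mul_mem' := fun {x y} hx hy => ⟨mul_mem hx.1 hy.1, fun b hb => by
    rw [show ⁅x * y, b⁆ = x * ⁅y, b⁆ * x⁻¹ * ⁅x, b⁆ by simp [commutatorElement_def]; group]
    exact mul_mem (h.Dnorm x hx.1.1 _ (hy.2 b hb)) (hx.2 b hb)⟩
  inv_mem' := fun {x} hx => ⟨inv_mem hx.1, fun b hb => by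
    rw [show ⁅x⁻¹, b⁆ = x⁻¹ * ⁅x, b⁆⁻¹ * (x⁻¹)⁻¹ by simp [commutatorElement_def]; group]
    exact h.Dnorm _ (inv_mem hx.1.1) _ (inv_mem (hx.2 b hb))⟩

variable {W' D' W₁' : Subgroup P}

theorem not_le_symm (h : Good B W D W₁) (h' : Good B W' D' W₁') (hnc : ¬ W' ≤ cB B W) :
    ¬ W ≤ cB B W' := fun hle => hnc fun x hx =>
  ⟨h'.le hx, mem_centralizer_iff.2 fun y hy => (mem_centralizer_iff.1 (hle hy).2 x hx).symm⟩

theorem inf_le_W1 (h : Good B W D W₁) (h' : Good B W' D' W₁') (hnc : ¬ W' ≤ cB B W) :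
    W ⊓ cB B W' ≤ W₁ := by
  obtain ⟨x, hx, hxC⟩ := SetLike.not_le_iff_exists.1 hnc
  intro u hu
  refine h.fix x (h'.le hx) hxC u hu.1 ?_
  rw [commutatorElement_eq_one_iff_mul_comm.2 (mem_centralizer_iff.1 hu.2.2 x hx).symm]
  exact one_mem _

/-- What two non-commuting modules tell about each other. -/
theorem edge (h : Good B W D W₁) (h' : Good B W' D' W₁') (hnc : ¬ W' ≤ cB B W)
    (hcard : Nat.card ↥(cB B W') = Nat.card ↥(cB B W)) :
    W' ⊔ cB B W = B ∧ cB B W ⊓ cB B W' = h.fixC ∧ W ⊔ h.fixC = cB B W ∧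
      W' ⊔ h.fixC = cB B W' := by
  set C := cB B W with hC
  set C' := cB B W' with hC'
  have hCB : C ≤ B := inf_le_left
  have hC'B : C' ≤ B := inf_le_left
  have hW'C' : W' ≤ C' := h'.self_le
  have hWC : W ≤ C := h.self_le
  have hBp : 0 < Nat.card B := Nat.card_pos
  have hCp : 0 < Nat.card C := Nat.card_pos
  have h1 : Nat.card ↥(W' ⊓ C) ≤ Nat.card W₁' := card_le_of_le (h'.inf_le_W1 h (h.not_le_symm h' hnc))
  have e' : Nat.card W' * Nat.card C = Nat.card B * Nat.card W₁' := by rw [← hcard]; exact h'.card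
  have e1 := H10.card_mul_card_inf (h'.le.trans h.norm_cB : W' ≤ normalizer (C : Set P))
  have hsupB : W' ⊔ C ≤ B := sup_le h'.le hCB
  have hle1 : Nat.card ↥(W' ⊔ C) ≤ Nat.card B := card_le_of_le hsupB
  have htop : W' ⊔ C = B := by
    refine eq_of_le_of_card_ge hsupB ?_
    refine Nat.le_of_mul_le_mul_right ?_ (Nat.card_pos (α := W₁'))
    calc Nat.card B * Nat.card W₁' = Nat.card ↥(W' ⊔ C) * Nat.card ↥(W' ⊓ C) := by
          rw [e1, e']
      _ ≤ _ := Nat.mul_le_mul_left _ h1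
  have hinf : Nat.card ↥(W' ⊓ C) = Nat.card W₁' := by
    refine Nat.eq_of_mul_eq_mul_left hBp ?_
    rw [← e', ← e1, htop]
  have hCC' : C ⊔ C' = B := le_antisymm (sup_le hCB hC'B)
    (htop.ge.trans (sup_le (hW'C'.trans le_sup_right) le_sup_left))
  have e3 := H10.card_mul_card_inf (hCB.trans h'.norm_cB : C ≤ normalizer (C' : Set P))
  rw [hCC', hcard] at e3
  have hle0 : C ⊓ C' ≤ h.fixC := by
    intro c hc
    refine ⟨hc.1, fun b hb => ?_⟩
    obtain ⟨k, hk, x, hx, rfl⟩ := H1.exists_mul_of_mem_sup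
      (h'.le.trans h.norm_cB : W' ≤ normalizer (C : Set P)) (by rw [sup_comm, htop]; exact hb)
    have hcx : ⁅c, x⁆ = 1 := commutatorElement_eq_one_iff_mul_comm.2
      (mem_centralizer_iff.1 hc.2.2 x hx).symm
    rw [show ⁅c, k * x⁆ = ⁅c, k⁆ * (k * ⁅c, x⁆ * k⁻¹) by simp [commutatorElement_def]; group, hcx]
    simpa using h.comm c hc.1 k hk
  obtain ⟨x, hx, hxC⟩ := SetLike.not_le_iff_exists.1 hnc
  have hW1 : W ⊓ h.fixC ≤ W₁ := fun u hu => h.fix x (h'.le hx) hxC u hu.1 (hu.2.2 x (h'.le hx))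
  have hfC : h.fixC ≤ C := fun c hc => hc.1
  have e4 := H10.card_mul_card_inf ((hfC.trans hCB).trans h.norm : h.fixC ≤ normalizer (W : Set P))
  rw [sup_comm, inf_comm] at e4
  have hWf : W ⊔ h.fixC ≤ C := sup_le hWC hfC
  have hW1p : 0 < Nat.card W₁ := Nat.card_pos
  have hbound : Nat.card B * Nat.card h.fixC ≤ Nat.card C * Nat.card C := by
    refine Nat.le_of_mul_le_mul_right ?_ hW1p
    calc Nat.card B * Nat.card h.fixC * Nat.card W₁
        = (Nat.card B * Nat.card W₁) * Nat.card h.fixC := by ring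
      _ = Nat.card C * (Nat.card h.fixC * Nat.card W) := by rw [← h.card]; ring
      _ = Nat.card C * (Nat.card ↥(W ⊔ h.fixC) * Nat.card ↥(W ⊓ h.fixC)) := by rw [e4]
      _ ≤ Nat.card C * (Nat.card C * Nat.card W₁) :=
          Nat.mul_le_mul_left _ (Nat.mul_le_mul (card_le_of_le hWf) (card_le_of_le hW1))
      _ = _ := by ring
  have heq : C ⊓ C' = h.fixC :=
    eq_of_le_of_card_ge hle0 (Nat.le_of_mul_le_mul_left (hbound.trans e3.ge) hBp)
  rw [heq] at e3
  refine ⟨htop, heq, eq_of_le_of_card_ge hWf ?_, ?_⟩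
  · refine Nat.le_of_mul_le_mul_right ?_ hW1p
    refine Nat.le_of_mul_le_mul_left ?_ hCp
    calc Nat.card C * (Nat.card C * Nat.card W₁) = Nat.card B * Nat.card h.fixC * Nat.card W₁ := by
          rw [e3]; ring
      _ = Nat.card C * (Nat.card h.fixC * Nat.card W) := by
          rw [mul_right_comm, ← h.card]; ring
      _ = Nat.card C * (Nat.card ↥(W ⊔ h.fixC) * Nat.card ↥(W ⊓ h.fixC)) := by rw [e4]
      _ ≤ _ := Nat.mul_le_mul_left _ (Nat.mul_le_mul_left _ (card_le_of_le hW1))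
  · have hfC' : h.fixC ≤ C' := heq ▸ inf_le_right
    have e5 := H10.card_mul_card_inf ((hfC'.trans hC'B).trans h'.norm :
      h.fixC ≤ normalizer (W' : Set P))
    rw [sup_comm, inf_comm] at e5
    have hsame : W' ⊓ h.fixC = W' ⊓ C := le_antisymm (inf_le_inf_left _ hfC)
      (le_inf inf_le_left (heq ▸ le_inf inf_le_right (inf_le_left.trans hW'C')))
    rw [hsame, hinf] at e5
    refine eq_of_le_of_card_ge (sup_le hW'C' hfC') ?_
    rw [hcard]
    refine Nat.le_of_mul_le_mul_right (le_of_eq ?_) (Nat.mul_pos hBp Nat.card_pos : 0 < Nat.card B * Nat.card W₁')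
    calc Nat.card C * (Nat.card B * Nat.card W₁') = (Nat.card B * Nat.card h.fixC) * Nat.card W' := by
          rw [← e', e3]; ring
      _ = Nat.card B * (Nat.card ↥(W' ⊔ h.fixC) * Nat.card W₁') := by rw [e5]; ring
      _ = _ := by ring

/-- All modules not commuting with `W` have the same centraliser. -/
theorem partner_unique (h : Good B W D W₁) (h' : Good B W' D' W₁') {W'' D'' W₁'' : Subgroup P}
    (h'' : Good B W'' D'' W₁'') (hnc : ¬ W' ≤ cB B W) (hnc' : ¬ W'' ≤ cB B W)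
    (hcard : Nat.card ↥(cB B W') = Nat.card ↥(cB B W))
    (hcard' : Nat.card ↥(cB B W'') = Nat.card ↥(cB B W)) : cB B W'' = cB B W' := by
  obtain ⟨htop, heq, hsplit, hC'⟩ := h.edge h' hnc hcard
  obtain ⟨-, heq', -, hC''⟩ := h.edge h'' hnc' hcard'
  refine eq_of_le_of_card_ge ?_ (by rw [hcard, hcard'])
  rw [← hC'', ← hC']
  refine sup_le (fun y hy => ?_) le_sup_right
  by_cases hyC : y ∈ cB B W
  · exact mem_sup_right (heq'.le ⟨hyC, h''.self_le hy⟩)
  obtain ⟨k, hk, x, hx, hkx⟩ := H1.exists_mul_of_mem_sup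
    (h'.le.trans h.norm_cB : W' ≤ normalizer (cB B W : Set P))
    (by rw [sup_comm, htop]; exact h''.le hy : y ∈ cB B W ⊔ W')
  have hxB := h'.le hx
  have hxC : x ∉ cB B W := fun hxc => hyC (hkx ▸ mul_mem hk hxc)
  have hxi : x⁻¹ = x := inv_eq_of_mul_eq_one_right (h'.sq x hx)
  have hyy : k * x * (k * x) = 1 := by rw [← hkx]; exact h''.sq y hy
  have h1 : x * k * x = k⁻¹ := (inv_eq_of_mul_eq_one_right (by rw [← hyy]; group)).symm
  have h3 : ⁅k, x⁆ = k * k := by
    have h2 : x * k⁻¹ * x = k := by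
      calc x * k⁻¹ * x = x * (x * k * x) * x := by rw [h1]
        _ = (x * x) * k * (x * x) := by group
        _ = k := by rw [h'.sq x hx]; group
    rw [commutatorElement_def, hxi]
    calc k * x * k⁻¹ * x = k * (x * k⁻¹ * x) := by group
      _ = k * k := by rw [h2]
  have hkD : ⁅k, x⁆ ∈ D := h3 ▸ h.csq k hk
  obtain ⟨u, hu, f, hf, hk'⟩ := H1.exists_mul_of_mem_sup
    ((fun c hc => h.norm hc.1.1) : h.fixC ≤ normalizer (W : Set P)) (hsplit.ge hk)
  have hkf : k ∈ h.fixC := by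
    rw [hk'] at hkD ⊢
    rw [show ⁅u * f, x⁆ = u * ⁅f, x⁆ * u⁻¹ * ⁅u, x⁆ by simp [commutatorElement_def]; group] at hkD
    have hux := mul_mem (inv_mem (h.Dnorm u (h.le hu) _ (hf.2 x hxB))) hkD
    rw [← mul_assoc, inv_mul_cancel, one_mul] at hux
    exact mul_mem ⟨h.self_le hu, h.W1comm u (h.fix x hxB hxC u hu hux)⟩ hf
  rw [hkx]
  exact mul_mem (mem_sup_right hkf) (mem_sup_left hx)

theorem map (h : Good B W D W₁) (f : P ≃* P) (hB : B.map f.toMonoidHom = B) :
    Good B (W.map f.toMonoidHom) (D.map f.toMonoidHom) (W₁.map f.toMonoidHom) ∧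
      cB B (W.map f.toMonoidHom) = (cB B W).map f.toMonoidHom := by
  have hc : cB B (W.map f.toMonoidHom) = (cB B W).map f.toMonoidHom := by
    ext x
    simp only [cB, mem_inf, mem_map_equiv, mem_centralizer_iff, SetLike.mem_coe]
    have hBx : x ∈ B ↔ f.symm x ∈ B := by
      conv_lhs => rw [← hB]
      exact mem_map_equiv
    refine and_congr hBx ⟨fun h' w hw => f.injective ?_, fun h' w hw => f.symm.injective ?_⟩
    · simpa using h' (f w) (by simpa using hw)
    · simpa using h' (f.symm w) hw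
  have hb : ∀ {b : P}, b ∈ B → f.symm b ∈ B := fun hb' => by
    rw [← hB] at hb'
    exact mem_map_equiv.1 hb'
  have hm : ∀ {H : Subgroup P} {x : P}, x ∈ H.map f.toMonoidHom ↔ f.symm x ∈ H :=
    fun {H x} => mem_map_equiv
  refine ⟨⟨(map_mono h.le).trans hB.le, ?_, fun u hu => ?_, ?_, fun b hb' d hd => ?_,
    fun c hc1 c' hc2 => ?_, fun c hc1 => ?_, map_mono h.W1le, fun u hu b hb' => ?_,
    fun b hb' hbC u hu hcu => ?_, ?_⟩, hc⟩
  · exact H75.le_normalizer_of_conj fun b hb' u hu => by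
      rw [hm] at hu ⊢
      simpa using H75.conj_mem_of_mem_normalizer (h.norm (hb hb')) hu
  · exact f.symm.injective (by simpa using h.sq _ (hm.1 hu))
  · rw [hc]; exact map_mono h.Dle
  · rw [hm] at hd ⊢
    simpa using h.Dnorm _ (hb hb') _ hd
  · rw [hc, hm] at hc1 hc2
    rw [hm, map_commutatorElement]
    exact h.comm _ hc1 _ hc2
  · rw [hc, hm] at hc1
    rw [hm, map_mul]
    exact h.csq _ hc1
  · rw [hm] at hu ⊢
    rw [map_commutatorElement]
    exact h.W1comm _ hu _ (hb hb')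
  · rw [hc, hm] at hbC
    rw [hm] at hu hcu ⊢
    rw [map_commutatorElement] at hcu
    exact h.fix _ (hb hb') hbC _ hu hcu
  · rw [hc, card_map_of_injective f.injective, card_map_of_injective f.injective,
      card_map_of_injective f.injective]
    exact h.card

end Good

/-- A module commuting with its conjugates commutes with all conjugates of its images under a group
of automorphisms of odd order. -/
theorem images_commute {B W D W₁ : Subgroup P} [hBn : B.Normal] (A : Subgroup (MulAut P))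
    (hA : Odd (Nat.card A)) (hB : ∀ a ∈ A, B.map (a : P ≃* P).toMonoidHom = B)
    (h : Good B W D W₁) (hWc : ∀ g : P, W.map (MulAut.conj g).toMonoidHom ≤ cB B W) :
    ∀ a ∈ A, ∀ g : P, (W.map a.toMonoidHom).map (MulAut.conj g).toMonoidHom ≤ cB B W := by
  classical
  let Im : A → P → Subgroup P := fun a g => W.map ((a.1 : P ≃* P).trans (MulAut.conj g)).toMonoidHom
  have hIm : ∀ a g, Im a g = (W.map (a.1 : P ≃* P).toMonoidHom).map (MulAut.conj g).toMonoidHom :=
    fun a g => by rw [Subgroup.map_map]; rfl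
  have hBc : ∀ (a : A) (g : P), B.map ((a.1 : P ≃* P).trans (MulAut.conj g)).toMonoidHom = B := by
    intro a g
    have h1 : B.map ((a.1 : P ≃* P).trans (MulAut.conj g)).toMonoidHom =
        (B.map (a.1 : P ≃* P).toMonoidHom).map (MulAut.conj g).toMonoidHom := by
      rw [Subgroup.map_map]; rfl
    rw [h1, hB _ a.2]
    exact mem_normalizer_iff_map_conj_eq.1 (by rw [normalizer_eq_top_iff.2 hBn]; exact mem_top g)
  have hG : ∀ a g, ∃ D' W', Good B (Im a g) D' W' ∧
      Nat.card ↥(cB B (Im a g)) = Nat.card ↥(cB B W) := fun a g =>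
    ⟨_, _, (h.map _ (hBc a g)).1,
      by rw [(h.map _ (hBc a g)).2, card_map_of_injective (MulEquiv.injective _)]⟩
  let cls : A → Set (Subgroup P) := fun a => Set.range fun g => cB B (Im a g)
  have hmv : ∀ (x a : A) (g : P),
      (Im a g).map (x.1 : P ≃* P).toMonoidHom = Im (x * a) (x.1 g) := by
    intro x a g
    rw [Subgroup.map_map]
    refine congrArg (fun f => W.map f) (MonoidHom.ext fun w => ?_)
    simp [MulAut.mul_apply]
  have hcB : ∀ (x : A) (X : Subgroup P),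
      cB B (X.map (x.1 : P ≃* P).toMonoidHom) = (cB B X).map (x.1 : P ≃* P).toMonoidHom := by
    intro x X
    rw [cB, cB, map_inf _ _ _ (x.1 : P ≃* P).injective, hB _ x.2, H78.Block.map_centralizer_eq]
  have hcls : ∀ x a : A, cls (x * a) = (Subgroup.map (x.1 : P ≃* P).toMonoidHom) '' cls a := by
    intro x a
    ext Y
    constructor
    · rintro ⟨g, rfl⟩
      refine ⟨_, ⟨(x.1 : P ≃* P).symm g, rfl⟩, ?_⟩
      rw [← hcB, hmv]
      simp
    · rintro ⟨_, ⟨g, rfl⟩, rfl⟩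
      exact ⟨x.1 g, by show cB B _ = _; rw [← hmv, hcB]⟩
  -- `R a b`: some image in the class of `a` does not commute with the image at `b`
  let R : A → A → Prop := fun a b => ∃ g, ¬ Im a g ≤ cB B (Im b 1)
  have hconj : ∀ (k : P) (a : A) (g : P),
      (Im a g).map (MulAut.conj k).toMonoidHom = Im a (k * g) := by
    intro k a g
    rw [Subgroup.map_map]
    refine congrArg (fun f => W.map f) (MonoidHom.ext fun w => ?_)
    simp [mul_assoc]
  have hBk : ∀ k : P, B.map (MulAut.conj k).toMonoidHom = B := fun k =>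
    mem_normalizer_iff_map_conj_eq.1 (by rw [normalizer_eq_top_iff.2 hBn]; exact mem_top k)
  have hcBk : ∀ (k : P) (X : Subgroup P), cB B (X.map (MulAut.conj k).toMonoidHom) =
      (cB B X).map (MulAut.conj k).toMonoidHom := by
    intro k X
    rw [cB, cB, map_inf _ _ _ (MulAut.conj k).injective, hBk, H78.Block.map_centralizer_eq]
  have hnle : ∀ (k : P) (a : A) (g : P) (b : A) (g' : P), ¬ Im a g ≤ cB B (Im b g') →
      ¬ Im a (k * g) ≤ cB B (Im b (k * g')) := by
    intro k a g b g' hn hle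
    rw [← hconj, ← hconj, hcBk] at hle
    exact hn ((map_le_map_iff_of_injective (MulAut.conj k).injective).1 hle)
  have hleft : ∀ x a b : A, R a b → R (x * a) (x * b) := by
    rintro x a b ⟨g, hg⟩
    refine ⟨x.1 g, fun hle => hg ?_⟩
    rw [show Im (x * b) 1 = Im (x * b) (x.1 1) by rw [map_one], ← hmv, ← hmv, hcB] at hle
    exact (map_le_map_iff_of_injective (x.1 : P ≃* P).injective).1 hle
  have hsymm : ∀ a b : A, R a b → R b a := by
    rintro a b ⟨g, hg⟩
    obtain ⟨D1, W1, h1, -⟩ := hG b 1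
    obtain ⟨D2, W2, h2, -⟩ := hG a g
    refine ⟨g⁻¹, ?_⟩
    have := hnle g⁻¹ b 1 a g (h1.not_le_symm h2 hg)
    simpa using this
  have hfun : ∀ a b b' : A, R a b → R a b' → cls b = cls b' := by
    rintro a b b' ⟨g, hg⟩ ⟨g', hg'⟩
    obtain ⟨D1, W1, h1, c1⟩ := hG a 1
    obtain ⟨D2, W2, h2, c2⟩ := hG b g⁻¹
    obtain ⟨D3, W3, h3, c3⟩ := hG b' g'⁻¹
    have n2 : ¬ Im b g⁻¹ ≤ cB B (Im a 1) := by
      have := hnle g⁻¹ a g b 1 hg
      rw [inv_mul_cancel, mul_one] at this
      exact h2.not_le_symm h1 this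
    have n3 : ¬ Im b' g'⁻¹ ≤ cB B (Im a 1) := by
      have := hnle g'⁻¹ a g' b' 1 hg'
      rw [inv_mul_cancel, mul_one] at this
      exact h3.not_le_symm h1 this
    have heq := h1.partner_unique h2 h3 n2 n3 (c2.trans c1.symm) (c3.trans c1.symm)
    have hmem : ∀ (c c' : A) (u u' : P), cB B (Im c u) = cB B (Im c' u') → cls c ⊆ cls c' := by
      rintro c c' u u' he _ ⟨v, rfl⟩
      refine ⟨v * u⁻¹ * u', ?_⟩
      show cB B _ = cB B _
      rw [← hconj (v * u⁻¹), hcBk, ← he, ← hcBk, hconj]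
      simp
    exact (hmem _ _ _ _ heq.symm).antisymm (hmem _ _ _ _ heq)
  have hirr : ∀ a : A, ¬ R a a := by
    rintro a ⟨g, hg⟩
    obtain ⟨k, hk⟩ := (a.1 : P ≃* P).surjective g
    refine hg ?_
    rw [show Im a g = (W.map (MulAut.conj k).toMonoidHom).map (a.1 : P ≃* P).toMonoidHom by
      rw [hIm, Subgroup.map_map, Subgroup.map_map]
      refine congrArg (fun f => W.map f) (MonoidHom.ext fun w => ?_)
      simp [← hk], show Im a 1 = W.map (a.1 : P ≃* P).toMonoidHom by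
        rw [hIm]; convert Subgroup.map_id _ using 2; ext; simp, hcB]
    exact map_mono (hWc k)
  have hcong : ∀ a a' b : A, cls a = cls a' → R b a → R b a' := by
    rintro a a' b he ⟨g, hg⟩
    obtain ⟨u, hu⟩ : cB B (Im a 1) ∈ cls a' := he ▸ ⟨1, rfl⟩
    refine ⟨u⁻¹ * g, fun hle => hg ?_⟩
    have h1 : (Im b (u⁻¹ * g)).map (MulAut.conj u).toMonoidHom ≤
        (cB B (Im a' 1)).map (MulAut.conj u).toMonoidHom := map_mono hle
    rw [hconj, ← hcBk, hconj, mul_inv_cancel_left, mul_one] at h1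
    exact h1.trans hu.le
  intro a ha g x hx
  by_contra hcon
  have hR : R ⟨a, ha⟩ 1 := ⟨g, fun hle => hcon (by
    have he : Im (1 : A) 1 = W := by
      rw [hIm]; simp only [Subgroup.map_map]
      convert Subgroup.map_id W using 2
      ext; simp
    rw [he, hIm] at hle
    exact hle hx)⟩
  set a₀ : A := ⟨a, ha⟩
  -- `a₀²` fixes the class of `1`
  have h2 : cls (a₀ * a₀) = cls 1 := hfun a₀ _ _ (hsymm _ _ (by simpa using hleft a₀ a₀ 1 hR)) hR
  let Stb : Subgroup A :=
    { carrier := {x | cls x = cls 1}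
      one_mem' := rfl
      mul_mem' := fun {x y} hx hy => by
        show cls (x * y) = cls 1
        rw [hcls, hy, ← hcls, mul_one, hx]
      inv_mem' := fun {x} hx => by
        show cls x⁻¹ = cls 1
        calc cls x⁻¹ = cls (x⁻¹ * 1) := by rw [mul_one]
          _ = _ := by rw [hcls, ← (hx : cls x = cls 1), ← hcls, inv_mul_cancel]; exact (hx : cls x = cls 1).symm }
  have ha0 : a₀ ∈ Stb := by
    obtain ⟨k, hk⟩ := hA
    have he : (a₀ * a₀) ^ (k + 1) = a₀ := by
      rw [← sq, ← pow_mul, show 2 * (k + 1) = (2 * k + 1) + 1 by ring, pow_succ, ← hk,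
        pow_card_eq_one', one_mul]
    exact he ▸ pow_mem (show a₀ * a₀ ∈ Stb from h2) _
  exact hirr a₀ (hcong 1 a₀ a₀ (ha0 : cls a₀ = cls 1).symm hR)

end H29.OddPush
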